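import Cfsg.Agent.Lib.SLThreeResidual.Basic
import Cfsg.Agent.S0483
import Cfsg.Agent.S0254
import Cfsg.Agent.S0255
import Cfsg.Agent.S2086
import Mathlib

/-!
# Residual subgroups with dihedral Sylow two-subgroups

A residual subgroup of the three-dimensional special linear group whose quotient modulo scalars has
dihedral Sylow two-subgroups is one of three small groups or has all traces real.
-/

set_option autoImplicit false
set_option linter.style.haveILetI false

namespace CfsgLib.SLThreeResidual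

open Cfsg.Geo Matrix MatrixGroups

/-! ### The linear groups of dimension two -/

section PSLTwo

variable {K : Type*} [Field K] [Fintype K]

omit [Fintype K] in
/-- The product of a traceless matrix with a matrix, compared with the other order. -/
lemma conj_eq_inv (A J : SL(2, K)) (hJ : J 1 1 = -J 0 0)
    (h : J 0 0 * (A 0 0 - A 1 1) + J 0 1 * A 1 0 + J 1 0 * A 0 1 = 0) : J * A * J⁻¹ = A⁻¹ := by
  rw [mul_inv_eq_iff_eq_mul]
  apply Subtype.ext
  rw [Matrix.SpecialLinearGroup.coe_mul, Matrix.SpecialLinearGroup.coe_mul,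
    Matrix.SpecialLinearGroup.coe_inv, Matrix.adjugate_fin_two]
  ext i j
  fin_cases i <;> fin_cases j <;> simp [Matrix.mul_apply, Fin.sum_univ_two, hJ] <;>
    first | linear_combination h | linear_combination (-1 : K) * h | ring

/-- An element of `SL₂` is inverted by conjugation, unless it is unipotent and `-1` is not a square. -/
lemma exists_conj_eq_inv (h2 : (2 : K) ≠ 0) (A : SL(2, K))
    (h : IsSquare (-1 : K) ∨ (A 0 0 + A 1 1) ^ 2 ≠ 4) : ∃ J : SL(2, K), J * A * J⁻¹ = A⁻¹ := by
  suffices ∃ x y z : K, x * x + y * z = -1 ∧ x * (A 0 0 - A 1 1) + y * A 1 0 + z * A 0 1 = 0 by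
    obtain ⟨x, y, z, h1, h3⟩ := this
    refine ⟨⟨!![x, y; z, -x], ?_⟩, conj_eq_inv A _ (by simp) (by simpa using h3)⟩
    rw [Matrix.det_fin_two_of]
    linear_combination -h1
  have hdet : A 0 0 * A 1 1 - A 0 1 * A 1 0 = 1 := by
    rw [← Matrix.det_fin_two]
    exact A.2
  by_cases hb : A 0 1 = 0
  · by_cases hc : A 1 0 = 0
    · exact ⟨0, 1, -1, by ring, by rw [hb, hc]; ring⟩
    by_cases had : A 0 0 = A 1 1
    · rcases h with ⟨i, hi⟩ | h
      · exact ⟨i, 0, 0, by linear_combination -hi, by rw [had]; ring⟩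
      · refine absurd ?_ h
        rw [hb, had] at hdet
        rw [had]
        linear_combination 4 * hdet
    have hd : A 0 0 - A 1 1 ≠ 0 := sub_ne_zero.2 had
    exact ⟨1, -(A 0 0 - A 1 1) / A 1 0, 2 * A 1 0 / (A 0 0 - A 1 1), by field_simp; ring,
      by rw [hb]; field_simp; ring⟩
  rcases h with ⟨i, hi⟩ | h
  · exact ⟨i, 0, -(i * (A 0 0 - A 1 1)) / A 0 1, by linear_combination -hi, by field_simp; ring⟩
  set a := A 0 0
  set b := A 0 1
  set c := A 1 0
  set d := A 1 1
  set D := ((a - d) / (2 * b)) ^ 2 + c / b with hD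
  have hD0 : D ≠ 0 := by
    intro e
    apply h
    have : D * (4 * b ^ 2) = (a - d) ^ 2 + 4 * b * c := by rw [hD]; field_simp; ring
    rw [e, zero_mul] at this
    linear_combination 4 * hdet - this
  have hodd : Fintype.card K % 2 = 1 :=
    FiniteField.odd_card_of_char_ne_two fun e => h2 (by
      have := ringChar.Nat.cast_ringChar (R := K)
      rwa [e, Nat.cast_ofNat] at this)
  obtain ⟨u, y, huy⟩ := FiniteField.exists_root_sum_quadratic
    (f := (Polynomial.X ^ 2 + Polynomial.C (1 : K))) (g := Polynomial.C (-D) * Polynomial.X ^ 2)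
    (Polynomial.degree_X_pow_add_C (by norm_num) _)
    (Polynomial.degree_C_mul_X_pow 2 (neg_ne_zero.2 hD0)) hodd
  simp only [Polynomial.eval_add, Polynomial.eval_pow, Polynomial.eval_X, Polynomial.eval_C,
    Polynomial.eval_mul] at huy
  refine ⟨u + y * ((a - d) / (2 * b)), y, -((u + y * ((a - d) / (2 * b))) * (a - d) + y * c) / b,
    ?_, ?_⟩
  · rw [hD] at huy
    field_simp at huy ⊢
    linear_combination huy
  · field_simp
    ring

omit [Fintype K] in
/-- An element of trace `±2` has a power equal to a scalar. -/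
lemma pow_char_mem_center (h2 : (2 : K) ≠ 0) (ℓ : ℕ) [Fact ℓ.Prime] [CharP K ℓ] (A : SL(2, K))
    (h : (A 0 0 + A 1 1) ^ 2 = 4) : A ^ ℓ ∈ Subgroup.center SL(2, K) := by
  set M : Matrix (Fin 2) (Fin 2) K := (A : Matrix (Fin 2) (Fin 2) K)
  set s : K := (A 0 0 + A 1 1) / 2 with hs
  have hs2 : A 0 0 + A 1 1 = 2 * s := by rw [hs]; field_simp
  have hdet : A 0 0 * A 1 1 - A 0 1 * A 1 0 = 1 := by
    rw [← Matrix.det_fin_two]
    exact A.2
  have hss : s * s = 1 := by
    refine mul_left_cancel₀ (mul_ne_zero h2 h2) ?_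
    rw [hs2] at h
    linear_combination h
  have hsq : (M - s • 1) * (M - s • 1) = 0 := by
    ext i j
    fin_cases i <;> fin_cases j <;> simp [M, Matrix.mul_apply, Fin.sum_univ_two, Matrix.one_apply]
    · linear_combination A 0 0 * hs2 - hdet + hss
    · linear_combination A 0 1 * hs2
    · linear_combination A 1 0 * hs2
    · linear_combination A 1 1 * hs2 - hdet + hss
  have hpow : (M - s • 1) ^ ℓ = 0 := by
    obtain ⟨k, hk⟩ := Nat.exists_eq_add_of_le (Fact.out : ℓ.Prime).two_le
    rw [hk, pow_add, sq, hsq, zero_mul]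
  have hcomm : Commute M (s • (1 : Matrix (Fin 2) (Fin 2) K)) :=
    (Commute.one_right M).smul_right s
  rw [sub_pow_char_of_commute ℓ hcomm, sub_eq_zero, smul_pow, one_pow] at hpow
  rw [Subgroup.mem_center_iff]
  intro g
  apply Subtype.ext
  rw [Matrix.SpecialLinearGroup.coe_mul, Matrix.SpecialLinearGroup.coe_mul,
    Matrix.SpecialLinearGroup.coe_pow, hpow]
  simp

/-- A unipotent upper triangular matrix. -/
def upperElt (x : K) : SL(2, K) := ⟨!![1, x; 0, 1], by simp [Matrix.det_fin_two_of]⟩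

omit [Fintype K] in
lemma coe_upperElt (x : K) : (upperElt x : Matrix (Fin 2) (Fin 2) K) = !![1, x; 0, 1] := rfl

omit [Fintype K] in
lemma upperElt_add (x y : K) : upperElt (x + y) = upperElt x * upperElt y := by
  apply Subtype.ext
  simp only [Matrix.SpecialLinearGroup.coe_mul, coe_upperElt]
  simp [Matrix.mul_fin_two, add_comm]

/-- The unipotent upper triangular matrices. -/
def upperHom (K : Type*) [Field K] : Multiplicative K →* SL(2, K) :=
  MonoidHom.mk' (fun x => upperElt x.toAdd) fun x y => by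
    rw [toAdd_mul, upperElt_add]

/-- A lower triangular matrix. -/
def lowerOne : SL(2, K) := ⟨!![1, 0; 1, 1], by simp [Matrix.det_fin_two_of]⟩

omit [Fintype K] in
lemma coe_lowerOne : ((lowerOne : SL(2, K)) : Matrix (Fin 2) (Fin 2) K) = !![1, 0; 1, 1] := rfl

omit [Fintype K] in
lemma upperHom_mem_center {x : Multiplicative K} (h : upperHom K x ∈ Subgroup.center SL(2, K)) :
    x = 1 := by
  have := congrArg (fun M : SL(2, K) => (M : Matrix (Fin 2) (Fin 2) K) 0 0)
    (Subgroup.mem_center_iff.1 h lowerOne)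
  simp only [upperHom, MonoidHom.mk'_apply, Matrix.SpecialLinearGroup.coe_mul, coe_lowerOne,
    coe_upperElt] at this
  simpa [Matrix.mul_fin_two] using this

/-- The diagonal matrices. -/
def diagElt (a : Kˣ) : SL(2, K) :=
  ⟨!![(a : K), 0; 0, (a⁻¹ : Kˣ)], by simp [Matrix.det_fin_two_of]⟩

omit [Fintype K] in
lemma coe_diagElt (a : Kˣ) :
    (diagElt a : Matrix (Fin 2) (Fin 2) K) = !![(a : K), 0; 0, (a⁻¹ : Kˣ)] := rfl

omit [Fintype K] in
lemma diag_conj_upper (a : Kˣ) (x : Multiplicative K) :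
    diagElt a * upperHom K x * (diagElt a)⁻¹ =
      upperHom K (Multiplicative.ofAdd ((a : K) ^ 2 * x.toAdd)) := by
  rw [mul_inv_eq_iff_eq_mul]
  apply Subtype.ext
  simp only [upperHom, MonoidHom.mk'_apply, Matrix.SpecialLinearGroup.coe_mul, coe_upperElt, coe_diagElt]
  simp [Matrix.mul_fin_two]
  field_simp

end PSLTwo

/-! ### Characters of the unipotent subgroup -/

section Weights

variable {L : Type*} [Field L] [IsAlgClosed L]

/-- Commuting matrices leaving a non-zero subspace invariant have a common eigenvector in it. -/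
lemma exists_common_eigenvector {X : Type*} [Fintype X] (f : X → Matrix (Fin 3) (Fin 3) L)
    (hf : ∀ x y, f x * f y = f y * f x) (M : Submodule L (Fin 3 → L)) (hM : M ≠ ⊥)
    (hinv : ∀ x, ∀ v ∈ M, f x *ᵥ v ∈ M) :
    ∃ v ∈ M, v ≠ 0 ∧ ∀ x, ∃ μ : L, f x *ᵥ v = μ • v := by
  classical
  have key : ∀ s : Finset X, ∃ N : Submodule L (Fin 3 → L), N ≤ M ∧ N ≠ ⊥ ∧
      (∀ x, ∀ v ∈ N, f x *ᵥ v ∈ N) ∧ ∀ x ∈ s, ∃ μ : L, ∀ v ∈ N, f x *ᵥ v = μ • v := by
    intro s
    induction s using Finset.induction with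
    | empty => exact ⟨M, le_rfl, hM, hinv, by simp⟩
    | @insert a s _ ih =>
      obtain ⟨N, hNM, hN, hNinv, hNs⟩ := ih
      haveI : Nontrivial N := Submodule.nontrivial_iff_ne_bot.2 hN
      obtain ⟨μ, hμ⟩ := Module.End.exists_eigenvalue
        ((Matrix.toLin' (f a)).restrict (p := N) (q := N) fun v hv => by
          simpa using hNinv a v hv)
      obtain ⟨w, hw⟩ := hμ.exists_hasEigenvector
      have hw' : f a *ᵥ (w : Fin 3 → L) = μ • (w : Fin 3 → L) := by
        have := congrArg Subtype.val hw.apply_eq_smul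
        simpa using this
      refine ⟨N ⊓ LinearMap.ker (Matrix.toLin' (f a) - μ • LinearMap.id), inf_le_left.trans hNM,
        ?_, ?_, ?_⟩
      · refine (Submodule.ne_bot_iff _).2 ⟨w, ⟨w.2, ?_⟩, fun e => hw.2 (Subtype.ext e)⟩
        simp [hw']
      · intro x v hv
        obtain ⟨hvN, hvk⟩ := hv
        have hva : f a *ᵥ v = μ • v := sub_eq_zero.1 (by simpa using hvk)
        refine ⟨hNinv x v hvN, ?_⟩
        simp [Matrix.mulVec_mulVec, hf a x]
        rw [← Matrix.mulVec_mulVec, hva, Matrix.mulVec_smul, sub_self]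
      · intro x hx
        rcases Finset.mem_insert.1 hx with rfl | hx
        · exact ⟨μ, fun v hv => sub_eq_zero.1 (by simpa using hv.2)⟩
        · obtain ⟨ν, hν⟩ := hNs x hx
          exact ⟨ν, fun v hv => hν v hv.1⟩
  obtain ⟨N, hNM, hN, -, hNs⟩ := key Finset.univ
  obtain ⟨v, hv, hv0⟩ := (Submodule.ne_bot_iff _).1 hN
  exact ⟨v, hNM hv, hv0, fun x => by
    obtain ⟨μ, hμ⟩ := hNs x (Finset.mem_univ x)
    exact ⟨μ, hμ v hv⟩⟩

/-- A faithful representation of the additive group of a field in three dimensions which extends to the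
squares of the multiplicative group forces the field to have at most seven elements. -/
lemma card_le_seven {K : Type*} [Field K] [Fintype K]
    (hK : (Fintype.card K : L) ≠ 0) (ρ : Multiplicative K →* GL (Fin 3) L)
    (hinj : Function.Injective ρ) (T : Kˣ → GL (Fin 3) L)
    (hT : ∀ (a : Kˣ) (x : Multiplicative K),
      T a * ρ x * (T a)⁻¹ = ρ (Multiplicative.ofAdd ((a : K) ^ 2 * x.toAdd))) :
    Fintype.card K ≤ 7 := by
  classical
  set f : Multiplicative K → Matrix (Fin 3) (Fin 3) L :=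
    fun x => ((ρ x : GL (Fin 3) L) : Matrix (Fin 3) (Fin 3) L)
  have hmul : ∀ x y, f x * f y = f (x * y) := fun x y => by simp [f]
  have hf1 : f 1 = 1 := by simp [f]
  set x₀ : Multiplicative K := Multiplicative.ofAdd 1
  have hx₀ : f x₀ ≠ 1 := fun e => by
    have : ρ x₀ = ρ 1 := Units.ext (by rw [map_one]; exact e)
    exact one_ne_zero (α := K) (congrArg Multiplicative.toAdd (hinj this))
  set M : Submodule L (Fin 3 → L) := LinearMap.range (Matrix.toLin' (f x₀ - 1))
  have hM : M ≠ ⊥ := fun e => hx₀ (sub_eq_zero.1 (by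
    apply Matrix.toLin'.injective
    rw [LinearMap.range_eq_bot.1 e, map_zero]))
  have hMinv : ∀ x, ∀ v ∈ M, f x *ᵥ v ∈ M := by
    rintro x _ ⟨w, rfl⟩
    refine ⟨f x *ᵥ w, ?_⟩
    simp only [Matrix.toLin'_apply, Matrix.mulVec_mulVec]
    rw [sub_mul, mul_sub, hmul, hmul, mul_comm, one_mul, mul_one]
  obtain ⟨v, hvM, hv0, hev⟩ := exists_common_eigenvector f
    (fun x y => by rw [hmul, hmul, mul_comm]) M hM hMinv
  choose χf hχ using hev
  have hinjv : ∀ {a b : L}, a • v = b • v → a = b := fun e => smul_left_injective L hv0 e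
  let χ : Multiplicative K →* L :=
    { toFun := χf
      map_one' := hinjv (by rw [← hχ, hf1, Matrix.one_mulVec, one_smul])
      map_mul' := fun x y => hinjv (by
        rw [← hχ, ← hmul, ← Matrix.mulVec_mulVec, hχ y, Matrix.mulVec_smul, hχ x, smul_smul,
          mul_comm]) }
  have hχ0 : χ x₀ ≠ 1 := by
    intro e
    obtain ⟨w, hw⟩ := hvM
    have hw' : f x₀ *ᵥ w = w + v := by
      rw [← hw]
      simp [Matrix.sub_mulVec]
    have hv1 : f x₀ *ᵥ v = v := by
      rw [hχ x₀, show χf x₀ = 1 from e, one_smul]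
    have hpow : ∀ n : ℕ, f (x₀ ^ n) *ᵥ w = w + (n : L) • v := by
      intro n
      induction n with
      | zero => simp [hf1]
      | succ n ih =>
        rw [pow_succ', ← hmul, ← Matrix.mulVec_mulVec, ih, Matrix.mulVec_add, Matrix.mulVec_smul,
          hw', hv1, Nat.cast_succ, add_smul, one_smul]
        abel
    have := hpow (Fintype.card K)
    rw [show x₀ ^ Fintype.card K = 1 by
      rw [Fintype.card_congr (Multiplicative.ofAdd (α := K)), pow_card_eq_one],
      hf1, Matrix.one_mulVec, left_eq_add, smul_eq_zero] at this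
    exact this.elim hK hv0
  -- the weight vectors attached to the squares
  set sq : Kˣ →* Kˣ := powMonoidHom 2
  let root : sq.range → Kˣ := fun s => s.2.choose
  have hroot : ∀ s : sq.range, root s ^ 2 = s.1 := fun s => s.2.choose_spec
  let w : sq.range → (Fin 3 → L) := fun s => (T (root s) : Matrix (Fin 3) (Fin 3) L) *ᵥ v
  let mulHom : K → (Multiplicative K →* Multiplicative K) := fun c =>
    (AddMonoidHom.mulLeft c).toMultiplicative
  let ψ : sq.range → (Multiplicative K →* L) := fun s => χ.comp (mulHom ((s.1⁻¹ : Kˣ) : K))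
  have hw : ∀ s x, f x *ᵥ w s = ψ s x • w s := by
    intro s x
    set y : Multiplicative K := mulHom ((s.1⁻¹ : Kˣ) : K) x
    have hy : Multiplicative.ofAdd ((root s : K) ^ 2 * y.toAdd) = x := by
      have h1 : (root s : K) ^ 2 = (s.1 : K) := by rw [← Units.val_pow_eq_pow_val, hroot]
      rw [h1]
      simp [y, mulHom]
    have hc : f x * (T (root s) : Matrix (Fin 3) (Fin 3) L) =
        (T (root s) : Matrix (Fin 3) (Fin 3) L) * f y := by
      have := hT (root s) y
      rw [hy, mul_inv_eq_iff_eq_mul] at this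
      exact (congrArg Units.val this).symm
    simp only [w, Matrix.mulVec_mulVec, hc]
    rw [← Matrix.mulVec_mulVec, hχ y, Matrix.mulVec_smul]
    rfl
  have hw0 : ∀ s, w s ≠ 0 := by
    intro s e
    apply hv0
    have := congrArg (fun u => (((T (root s))⁻¹ : GL (Fin 3) L) : Matrix (Fin 3) (Fin 3) L) *ᵥ u) e
    simpa [w, Matrix.mulVec_mulVec] using this
  have hψ1 : ∀ s x, ψ s x * ψ s x⁻¹ = 1 := fun s x => by rw [← map_mul, mul_inv_cancel, map_one]
  have horth : ∀ s t, s ≠ t → ∑ x, ψ t x⁻¹ * ψ s x = 0 := by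
    intro s t hst
    refine sum_hom_units_eq_zero
      ((ψ t).comp (invMonoidHom : Multiplicative K →* Multiplicative K) * ψ s) fun e => ?_
    apply hχ0
    have hd : ((s.1⁻¹ : Kˣ) : K) - ((t.1⁻¹ : Kˣ) : K) ≠ 0 := by
      rw [sub_ne_zero]
      exact fun e' => hst (Subtype.ext (inv_injective (Units.ext e')))
    have h1 : ψ t (Multiplicative.ofAdd (((s.1⁻¹ : Kˣ) : K) - ((t.1⁻¹ : Kˣ) : K))⁻¹)⁻¹ *
        ψ s (Multiplicative.ofAdd (((s.1⁻¹ : Kˣ) : K) - ((t.1⁻¹ : Kˣ) : K))⁻¹) = 1 :=
      DFunLike.congr_fun e (Multiplicative.ofAdd (((s.1⁻¹ : Kˣ) : K) - ((t.1⁻¹ : Kˣ) : K))⁻¹)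
    rw [← h1]
    simp only [ψ, MonoidHom.comp_apply, ← map_mul]
    congr 1
    apply Multiplicative.toAdd.injective
    simp [x₀, mulHom]
    rw [← sub_eq_neg_add, ← sub_mul]
    simpa using (mul_inv_cancel₀ hd).symm
  have hli : LinearIndependent L w := by
    rw [Fintype.linearIndependent_iff]
    intro c hc t
    have h1 : ∑ x : Multiplicative K, ψ t x⁻¹ • (f x *ᵥ ∑ s, c s • w s) = 0 := by simp [hc]
    simp_rw [Matrix.mulVec_sum, Matrix.mulVec_smul, hw, Finset.smul_sum, smul_smul] at h1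
    rw [Finset.sum_comm] at h1
    simp_rw [← Finset.sum_smul, mul_comm (c _), ← mul_assoc, ← Finset.sum_mul] at h1
    rw [Finset.sum_eq_single t (fun s _ hst => by rw [horth s t hst, zero_mul, zero_smul])
      (by simp), smul_eq_zero] at h1
    rcases h1 with h1 | h1
    · rcases mul_eq_zero.1 h1 with h1 | h1
      · refine absurd ?_ hK
        rw [← h1, Finset.sum_congr rfl fun x _ => (mul_comm _ _).trans (hψ1 t x)]
        simp
      · exact h1
    · exact absurd h1 (hw0 t)
  have hle : Nat.card sq.range ≤ 3 := by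
    rw [Nat.card_eq_fintype_card]
    exact hli.fintype_card_le_finrank.trans (by simp)
  have hker : Nat.card sq.ker ≤ 2 := by
    have hsub : (Set.univ.image (fun u : sq.ker => ((u : Kˣ) : K))) ⊆ ({1, -1} : Finset K) := by
      rintro _ ⟨⟨u, hu⟩, -, rfl⟩
      have : (u : K) ^ 2 = 1 := by
        rw [← Units.val_pow_eq_pow_val]
        exact congrArg Units.val (show u ^ 2 = 1 from hu)
      rcases sq_eq_one_iff.1 this with h | h <;> simp [h]
    have h1 := Set.ncard_le_ncard hsub (Finset.finite_toSet _)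
    rw [Set.ncard_image_of_injective _ (fun a b h => Subtype.ext (Units.ext h)),
      Set.ncard_univ, Set.ncard_coe_finset] at h1
    exact h1.trans Finset.card_le_two
  have h := Subgroup.card_mul_index sq.ker
  rw [Subgroup.index_ker, Nat.card_eq_fintype_card (α := Kˣ), Fintype.card_units] at h
  have := Nat.mul_le_mul hker hle
  omega

end Weights

/-! ### The main result -/

section Main

variable {F : Type*} [Field F] [Fintype F] {P : Subgroup (GL (Fin 3) F)}

/-- The quotient of a core subgroup has trivial odd core as soon as its order is even. -/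
lemma oddCore_eq_bot_of_two_dvd {X : Type*} [Group X] [Finite X] [IsSimpleGroup X]
    (h2 : 2 ∣ Nat.card X) : Cfsg.oddCore X = ⊥ := by
  refine (sSup_eq_bot).2 fun N ⟨hN, hcop⟩ => ?_
  refine (hN.eq_bot_or_eq_top).resolve_right fun e => ?_
  rw [e, Subgroup.card_top] at hcop
  exact absurd (Nat.Coprime.eq_one_of_dvd hcop.symm h2) (by norm_num)

/-- A core subgroup over a two-dimensional projective group has no non-trivial scalars. -/
lemma scalars_trivial (hC : Core P) {K : Type} [Field K] [Fintype K] (h4 : 4 ≤ Fintype.card K)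
    (h4' : Fintype.card K ≠ 4) (h9 : Fintype.card K ≠ 9)
    (e : Proj P ≃* Matrix.ProjectiveSpecialLinearGroup (Fin 2) K) :
    (scalars (Fin 3) F).subgroupOf P = ⊥ := by
  classical
  set N := (scalars (Fin 3) F).subgroupOf P with hN
  let q : Shrink.{0} ↥P ≃* ↥P := Shrink.mulEquiv
  let σ : Shrink.{0} ↥P →* Matrix.ProjectiveSpecialLinearGroup (Fin 2) K :=
    e.toMonoidHom.comp ((QuotientGroup.mk' N).comp q.toMonoidHom)
  have hperf : commutator ↥P = ⊤ := by
    rw [← Subgroup.map_injective (Subgroup.subtype_injective P) |>.eq_iff]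
    rw [map_commutator_eq, Subgroup.range_subtype, ← MonoidHom.range_eq_map, Subgroup.range_subtype]
    exact hC.perfect
  have hperf' : commutator (Shrink.{0} ↥P) = ⊤ := by
    have hr : q.symm.toMonoidHom.range = ⊤ := MonoidHom.range_eq_top.2 q.symm.surjective
    have h := map_commutator_eq ↥P q.symm.toMonoidHom
    rw [hperf, ← MonoidHom.range_eq_map, hr] at h
    exact h.symm
  have hker : ∀ a, a ∈ σ.ker ↔ q a ∈ N := fun a => by
    rw [MonoidHom.mem_ker]
    show e (QuotientGroup.mk' N (q a)) = 1 ↔ _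
    rw [map_eq_one_iff e e.injective]
    exact QuotientGroup.eq_one_iff _
  have hcen : ∀ s ∈ N, ∀ g : ↥P, g * s = s * g := by
    intro s hs g
    obtain ⟨c, hc⟩ := (mem_scalars_iff _).1 (Subgroup.mem_subgroupOf.1 hs)
    apply Subtype.ext
    apply Units.ext
    simp [hc]
  have hstem : Cfsg.IsStemExtension σ := by
    refine ⟨e.surjective.comp ((QuotientGroup.mk'_surjective N).comp q.surjective),
      fun a ha => ?_, hperf' ▸ le_top⟩
    rw [Subgroup.mem_center_iff]
    intro g
    apply q.injective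
    rw [map_mul, map_mul]
    exact hcen _ ((hker a).1 ha) _
  obtain ⟨π, hπ⟩ := (Cfsg.Agent.S2086.result (F := K) rfl 2 le_rfl (fun _ => h4)
    (by simp [h4', h9])).2 _ σ hstem
  rw [eq_bot_iff]
  intro s hs
  rw [Subgroup.mem_bot]
  obtain ⟨a, ha⟩ := hπ ⟨q.symm s, (hker _).2 (by simpa using hs)⟩
  have hz2 : ∀ b : Multiplicative (ZMod (Nat.gcd 2 (Fintype.card K - 1))), b ^ 2 = 1 := by
    intro b
    apply Multiplicative.toAdd.injective
    rw [toAdd_pow, toAdd_one, nsmul_eq_mul, ZMod.natCast_eq_zero_iff .. |>.2 (Nat.gcd_dvd_left _ _),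
      zero_mul]
  have hs2 : s ^ 2 = 1 := by
    have h1 := congrArg π (hz2 a)
    rw [map_pow, ha, map_one] at h1
    have h2 := congrArg Subtype.val h1
    rw [SubmonoidClass.coe_pow, OneMemClass.coe_one] at h2
    have h3 := congrArg q h2
    simpa using h3
  have hs3 : s ^ 3 = 1 := by
    obtain ⟨c, hc⟩ := (mem_scalars_iff _).1 (Subgroup.mem_subgroupOf.1 hs)
    have hdet : Matrix.det ((s : GL (Fin 3) F) : Matrix (Fin 3) (Fin 3) F) = 1 :=
      congrArg Units.val (hC.le_sl s.2)
    rw [hc, Matrix.det_smul, Matrix.det_one, mul_one, Fintype.card_fin] at hdet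
    apply Subtype.ext
    apply Units.ext
    simp [hc, smul_pow, hdet]
  calc s = s ^ 3 * (s ^ 2)⁻¹ := by group
    _ = 1 := by rw [hs2, hs3]; group

omit [Fintype F] in
/-- In the defining characteristic an element of prime order equal to the characteristic has trace `3`. -/
lemma trace_eq_three (ℓ : ℕ) [Fact ℓ.Prime] [CharP F ℓ] {g : GL (Fin 3) F} (h : g ^ ℓ = 1) :
    Matrix.trace (g : Matrix (Fin 3) (Fin 3) F) = 3 := by
  have hnil : IsNilpotent ((g : Matrix (Fin 3) (Fin 3) F) - 1) := by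
    refine ⟨ℓ, ?_⟩
    rw [sub_pow_char_of_commute ℓ (Commute.one_right _), one_pow, ← Units.val_pow_eq_pow_val, h,
      Units.val_one, sub_self]
  have := (Matrix.isNilpotent_trace_of_isNilpotent hnil).eq_zero
  rw [Matrix.trace_sub, sub_eq_zero, Matrix.trace_one, Fintype.card_fin] at this
  simpa using this

/-- Residual subgroups with dihedral Sylow two-subgroups modulo scalars. -/
theorem proj_of_dihedral (hC : Core P) (S : Sylow 2 (Proj P)) (n : ℕ) (hn : 2 ≤ n)
    (hS : Nonempty ((S : Subgroup (Proj P)) ≃* DihedralGroup n)) :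
    Nonempty (Proj P ≃* Matrix.ProjectiveSpecialLinearGroup (Fin 3) (ZMod 2)) ∨
      Nonempty (Proj P ≃* alternatingGroup (Fin 6)) ∨
      Nonempty (Proj P ≃* alternatingGroup (Fin 7)) ∨ RealTraces P := by
  classical
  haveI := hC.simple
  haveI : Group.IsPerfect (Proj P) := ⟨by
    rcases (inferInstance : (commutator (Proj P)).Normal).eq_bot_or_eq_top with h | h
    · exact absurd ⟨⟨fun a b => commutatorElement_eq_one_iff_mul_comm.1 ((Subgroup.mem_bot).1
        (h ▸ Subgroup.commutator_mem_commutator (Subgroup.mem_top a) (Subgroup.mem_top b)))⟩⟩ hC.nonabelian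
    · exact h⟩
  have h2 : 2 ∣ Nat.card (Proj P) := by
    obtain ⟨e⟩ := hS
    refine (Dvd.intro n rfl).trans ?_
    rw [← DihedralGroup.nat_card, ← Nat.card_congr e.toEquiv]
    exact Subgroup.card_subgroup_dvd_card _
  have hbot := oddCore_eq_bot_of_two_dvd h2
  let e₀ : Proj P ⧸ Cfsg.oddCore (Proj P) ≃* Proj P :=
    (QuotientGroup.quotientMulEquivOfEq hbot).trans QuotientGroup.quotientBot
  rcases Cfsg.Agent.S0483.result S n hn hS with ⟨K, _, _, hodd, h3, ⟨e⟩⟩ | h
  swap
  · exact Or.inr (Or.inr (Or.inl ⟨e₀.symm.trans (Classical.choice h)⟩))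
  replace e := e₀.symm.trans e
  by_cases h7 : Fintype.card K = 7
  · obtain ⟨e'⟩ := Cfsg.Agent.S0255.result (K := ZMod 2) h7 (ZMod.card 2)
    exact Or.inl ⟨e.trans e'⟩
  by_cases h9 : Fintype.card K = 9
  · obtain ⟨e'⟩ := Cfsg.Agent.S0254.result h9
    exact Or.inr (Or.inl ⟨e.trans e'⟩)
  refine Or.inr (Or.inr (Or.inr ?_))
  have hsc := scalars_trivial hC (by omega)
    (fun h => by rw [h] at hodd; exact absurd hodd (by decide)) h9 e
  let eP : ↥P ≃* Matrix.ProjectiveSpecialLinearGroup (Fin 2) K :=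
    ((QuotientGroup.quotientMulEquivOfEq hsc).trans QuotientGroup.quotientBot).symm.trans e
  have h2K : (2 : K) ≠ 0 := by
    obtain ⟨ℓ, hℓ⟩ := CharP.exists K
    intro h0
    have hd : ℓ ∣ 2 := (CharP.cast_eq_zero_iff K ℓ 2).1 (by exact_mod_cast h0)
    haveI : Fact ℓ.Prime := ⟨CharP.char_is_prime K ℓ⟩
    have hℓ2 : ℓ = 2 := (Nat.prime_dvd_prime_iff_eq Fact.out Nat.prime_two).1 hd
    obtain ⟨m, -, hm⟩ := FiniteField.card K ℓ
    rw [hm, hℓ2, Nat.odd_iff] at hodd
    rw [Nat.pow_mod] at hodd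
    simp at hodd
  obtain ⟨ℓ, hℓ⟩ := CharP.exists K
  haveI : Fact ℓ.Prime := ⟨CharP.char_is_prime K ℓ⟩
  -- unless `-1` is a square, the two characteristics agree
  have hchar : IsSquare (-1 : K) ∨ CharP F ℓ := by
    by_cases hsq : IsSquare (-1 : K)
    · exact Or.inl hsq
    refine Or.inr ?_
    obtain ⟨p, hp⟩ := CharP.exists F
    by_contra hne
    have hpℓ : p ≠ ℓ := fun h => hne (h ▸ hp)
    rw [FiniteField.isSquare_neg_one_iff, not_ne_iff] at hsq
    let L := AlgebraicClosure F
    haveI : CharP L p := charP_of_injective_algebraMap (algebraMap F L).injective p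
    have hK : (Fintype.card K : L) ≠ 0 := by
      obtain ⟨m, -, hm⟩ := FiniteField.card K ℓ
      rw [hm, Nat.cast_pow]
      refine pow_ne_zero _ fun h0 => ?_
      haveI : Fact p.Prime := ⟨CharP.char_is_prime F p⟩
      exact hpℓ ((Nat.prime_dvd_prime_iff_eq Fact.out Fact.out).1
        ((CharP.cast_eq_zero_iff L p ℓ).1 h0))
    let Ψ : Matrix.ProjectiveSpecialLinearGroup (Fin 2) K →* GL (Fin 3) L :=
      (Matrix.GeneralLinearGroup.map (algebraMap F L)).comp (P.subtype.comp eP.symm.toMonoidHom)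
    have hΨ : Function.Injective Ψ := by
      intro a b h
      refine eP.symm.injective (Subtype.ext (Units.ext ?_))
      have h' := congrArg (fun u : GL (Fin 3) L => (u : Matrix (Fin 3) (Fin 3) L)) h
      exact Matrix.map_injective (algebraMap F L).injective h'
    let π₂ := QuotientGroup.mk' (Subgroup.center SL(2, K))
    have hle := card_le_seven (L := L) hK ((Ψ.comp π₂).comp (upperHom K)) (by
      rw [injective_iff_map_eq_one]
      intro x hx
      refine upperHom_mem_center ((QuotientGroup.eq_one_iff _).1 ?_)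
      exact hΨ (hx.trans (map_one Ψ).symm))
      (fun a => Ψ (π₂ (diagElt a))) (fun a x => by
        simp only [MonoidHom.comp_apply, ← map_inv, ← map_mul, diag_conj_upper])
    omega
  intro g hg
  obtain ⟨A, hA⟩ := QuotientGroup.mk'_surjective _ (eP ⟨g, hg⟩)
  by_cases hreal : IsSquare (-1 : K) ∨ (A 0 0 + A 1 1) ^ 2 ≠ 4
  · obtain ⟨J, hJ⟩ := exists_conj_eq_inv h2K A hreal
    set k := eP.symm (QuotientGroup.mk' _ J)
    have hk : k * ⟨g, hg⟩ * k⁻¹ = (⟨g, hg⟩ : ↥P)⁻¹ := by
      apply eP.injective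
      rw [map_mul, map_mul, map_inv, map_inv, ← hA, MulEquiv.apply_symm_apply, ← map_inv, ← map_inv,
        ← map_mul, ← map_mul, hJ]
    have hk' := congrArg (fun u : ↥P => ((u : GL (Fin 3) F) : Matrix (Fin 3) (Fin 3) F)) hk
    simp only [Subgroup.coe_mul, Subgroup.coe_inv, Units.val_mul] at hk'
    rw [← hk']
    exact Matrix.trace_units_conj _ _
  · simp only [not_or, not_ne_iff] at hreal
    haveI : CharP F ℓ := hchar.resolve_left hreal.1
    have hgl : g ^ ℓ = 1 := by
      have h1 : eP (⟨g, hg⟩ ^ ℓ) = 1 := by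
        rw [map_pow, ← hA, ← map_pow]
        exact (QuotientGroup.eq_one_iff _).2 (pow_char_mem_center h2K ℓ A hreal.2)
      rw [← map_one eP] at h1
      simpa using congrArg Subtype.val (eP.injective h1)
    rw [trace_eq_three ℓ hgl, trace_eq_three ℓ (g := g⁻¹) (by rw [inv_pow, hgl, inv_one])]

end Main

end CfsgLib.SLThreeResidual
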