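import Cfsg.Agent.Lib.SmallDim.UnitaryThreeTablesA

/-!
# The group `L₂(7) = SL₃(2)` inside the model of `3.A₇` in `SU(3,5)`: tables
-/

set_option autoImplicit false
set_option maxRecDepth 8000

namespace CfsgLib.SLThreeResidual.SevenFive

open CfsgLib.SmallDim.UThree

/-- Three by three arrays over two elements. -/
abbrev M2 : Type := Fin 3 → Fin 3 → ZMod 2

/-- Product over two elements. -/
def mul2 (A B : M2) : M2 := fun i j => A i 0 * B 0 j + A i 1 * B 1 j + A i 2 * B 2 j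

/-- Product of coded matrices. -/
def mm5 (A B : M3 5) : M3 5 := fun i j => qm (A i 0) (B 0 j) + qm (A i 1) (B 1 j) + qm (A i 2) (B 2 j)

/-- The two generators over two elements. -/
def gen2 (b : Bool) : M2 := if b then ![![0,0,1],![0,1,1],![1,0,1]] else ![![1,1,0],![0,1,0],![0,0,1]]

/-- Their images. -/
def gen5 (b : Bool) : M3 5 := if b then ![![(0,0),(1,3),(4,3)],![(4,2),(1,1),(4,1)],![(0,4),(3,0),(4,4)]] else ![![(1,0),(1,0),(1,1)],![(1,0),(2,0),(3,3)],![(1,4),(3,2),(1,0)]]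

/-- The elements. -/
def eltL : List M2 :=
  [![![1,0,0],![0,1,0],![0,0,1]],
   ![![1,1,0],![0,1,0],![0,0,1]],
   ![![0,0,1],![0,1,1],![1,0,1]],
   ![![0,1,0],![0,1,1],![1,0,1]],
   ![![0,0,1],![0,1,1],![1,1,1]],
   ![![1,0,1],![1,1,0],![1,0,0]],
   ![![0,1,0],![0,1,1],![1,1,1]],
   ![![0,1,1],![1,1,0],![1,0,0]],
   ![![1,0,1],![1,1,0],![1,1,1]],
   ![![1,1,1],![1,0,0],![1,1,0]],
   ![![0,1,1],![1,1,0],![1,1,1]],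
   ![![0,1,1],![1,0,0],![1,1,0]],
   ![![1,1,1],![1,0,0],![1,0,1]],
   ![![1,0,0],![0,1,0],![1,1,1]],
   ![![1,1,1],![0,0,1],![0,1,0]],
   ![![0,1,1],![1,0,0],![1,0,1]],
   ![![1,1,0],![0,1,0],![1,1,1]],
   ![![1,1,0],![0,0,1],![0,1,0]],
   ![![1,1,1],![0,0,1],![1,0,0]],
   ![![1,1,0],![0,1,0],![1,0,1]],
   ![![1,0,1],![0,0,1],![0,1,0]],
   ![![1,1,1],![1,0,1],![0,1,1]],
   ![![1,1,0],![0,0,1],![1,0,0]],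
   ![![1,0,0],![0,1,0],![1,0,1]],
   ![![1,0,0],![0,0,1],![0,1,0]],
   ![![0,1,0],![1,0,1],![0,1,1]],
   ![![1,0,1],![0,0,1],![1,1,0]],
   ![![1,1,1],![1,0,1],![0,0,1]],
   ![![0,1,0],![0,1,1],![1,0,0]],
   ![![1,0,0],![1,0,1],![0,1,1]],
   ![![1,0,1],![1,1,1],![0,1,1]],
   ![![1,0,0],![0,0,1],![1,1,0]],
   ![![0,1,0],![1,0,1],![0,0,1]],
   ![![0,0,1],![0,1,1],![1,0,0]],
   ![![0,0,1],![1,0,1],![0,1,1]],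
   ![![0,1,0],![1,1,1],![0,1,1]],
   ![![1,0,0],![1,0,1],![0,1,0]],
   ![![1,0,1],![1,1,1],![0,0,1]],
   ![![0,1,0],![0,1,1],![1,1,0]],
   ![![0,1,1],![1,1,0],![0,0,1]],
   ![![1,1,0],![1,1,1],![0,1,1]],
   ![![0,0,1],![1,0,0],![1,1,0]],
   ![![1,0,0],![1,1,1],![1,1,0]],
   ![![0,0,1],![1,0,1],![0,1,0]],
   ![![0,1,0],![1,1,1],![0,0,1]],
   ![![0,0,1],![0,1,1],![1,1,0]],
   ![![1,0,1],![1,1,0],![0,0,1]],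
   ![![0,0,1],![1,1,1],![0,1,1]],
   ![![1,0,1],![1,0,0],![1,1,0]],
   ![![0,1,1],![1,1,1],![1,1,0]],
   ![![1,1,0],![1,1,1],![0,1,0]],
   ![![0,0,1],![1,0,0],![0,1,1]],
   ![![1,0,0],![1,1,1],![1,0,1]],
   ![![0,1,1],![1,1,0],![0,1,0]],
   ![![0,1,1],![1,0,0],![0,0,1]],
   ![![0,1,0],![1,1,1],![1,1,0]],
   ![![0,0,1],![1,1,0],![1,0,0]],
   ![![1,1,0],![1,0,1],![1,0,0]],
   ![![0,0,1],![1,1,1],![0,1,0]],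
   ![![1,0,1],![1,0,0],![0,1,1]],
   ![![0,1,1],![1,1,1],![1,0,1]],
   ![![1,0,1],![1,1,0],![0,1,0]],
   ![![1,1,1],![1,0,0],![0,0,1]],
   ![![1,0,1],![1,1,1],![1,1,0]],
   ![![1,1,1],![1,1,0],![1,0,0]],
   ![![0,1,1],![1,0,1],![1,0,0]],
   ![![0,0,1],![1,1,0],![0,1,1]],
   ![![1,1,0],![1,0,1],![1,1,1]],
   ![![0,0,1],![1,1,1],![1,0,0]],
   ![![0,1,1],![1,0,0],![0,1,0]],
   ![![1,1,0],![0,1,0],![0,1,1]],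
   ![![1,1,0],![0,0,1],![1,0,1]],
   ![![0,1,0],![1,0,1],![1,0,0]],
   ![![0,1,1],![1,1,1],![0,1,0]],
   ![![1,0,1],![0,1,0],![0,0,1]],
   ![![0,1,0],![1,0,0],![0,0,1]],
   ![![1,1,1],![1,1,0],![0,1,1]],
   ![![0,1,1],![1,0,1],![1,1,1]],
   ![![1,1,0],![1,1,1],![1,0,0]],
   ![![1,1,1],![1,0,0],![0,1,0]],
   ![![1,0,0],![0,1,0],![0,1,1]],
   ![![1,1,1],![0,0,1],![1,0,1]],
   ![![1,1,1],![1,0,1],![1,0,0]],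
   ![![1,0,0],![1,1,1],![0,1,0]],
   ![![1,1,1],![0,1,0],![0,0,1]],
   ![![1,1,0],![1,0,0],![0,0,1]],
   ![![1,0,1],![0,1,0],![1,1,0]],
   ![![0,1,0],![1,0,0],![1,1,1]],
   ![![0,0,1],![1,0,1],![1,1,0]],
   ![![1,1,0],![0,0,1],![0,1,1]],
   ![![1,0,0],![0,0,1],![1,1,1]],
   ![![0,1,1],![1,0,1],![0,1,0]],
   ![![1,0,0],![0,1,1],![1,0,1]],
   ![![0,1,0],![1,1,0],![0,0,1]],
   ![![0,1,1],![0,0,1],![1,0,1]],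
   ![![1,1,1],![0,1,0],![1,1,0]],
   ![![1,1,0],![1,0,0],![1,1,1]],
   ![![1,0,0],![1,0,1],![1,1,0]],
   ![![1,1,1],![0,0,1],![0,1,1]],
   ![![1,0,1],![0,0,1],![1,1,1]],
   ![![1,1,0],![1,0,1],![0,1,0]],
   ![![1,1,1],![0,1,1],![1,0,1]],
   ![![1,0,0],![1,1,0],![0,0,1]],
   ![![0,1,0],![0,0,1],![1,0,1]],
   ![![1,1,1],![0,1,0],![1,0,0]],
   ![![1,0,0],![0,1,1],![0,1,0]],
   ![![0,1,0],![1,1,0],![1,0,1]],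
   ![![0,1,1],![0,0,1],![1,1,1]],
   ![![1,0,1],![1,0,0],![0,1,0]],
   ![![1,0,0],![0,0,1],![0,1,1]],
   ![![0,1,0],![1,0,1],![1,1,0]],
   ![![0,0,1],![1,0,1],![1,1,1]],
   ![![1,1,0],![1,0,0],![0,1,1]],
   ![![1,1,0],![0,1,1],![1,1,1]],
   ![![0,1,1],![0,1,0],![1,0,1]],
   ![![1,0,1],![0,1,0],![1,0,0]],
   ![![1,1,1],![0,1,1],![0,1,0]],
   ![![1,0,0],![1,1,0],![1,0,1]],
   ![![0,1,0],![0,0,1],![1,1,1]],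
   ![![0,0,1],![1,0,0],![0,1,0]],
   ![![1,0,1],![0,0,1],![0,1,1]],
   ![![1,1,1],![1,0,1],![1,1,0]],
   ![![1,0,0],![1,0,1],![1,1,1]],
   ![![0,1,0],![1,0,0],![0,1,1]],
   ![![1,0,1],![0,1,1],![1,1,1]],
   ![![0,0,1],![0,1,0],![1,0,1]],
   ![![1,1,1],![0,1,1],![0,0,1]],
   ![![1,1,0],![0,1,1],![0,1,0]],
   ![![0,1,1],![0,1,0],![1,0,0]],
   ![![1,1,1],![1,1,0],![0,1,0]],
   ![![0,1,0],![1,1,1],![1,0,0]],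
   ![![0,0,1],![1,1,1],![1,0,1]],
   ![![1,0,1],![1,0,0],![1,1,1]],
   ![![1,0,0],![1,1,0],![0,1,1]],
   ![![0,1,0],![0,0,1],![1,1,0]],
   ![![0,1,0],![1,1,0],![1,1,1]],
   ![![0,1,1],![0,1,0],![1,1,1]],
   ![![1,1,0],![0,1,1],![1,0,0]],
   ![![1,0,0],![0,1,1],![0,0,1]],
   ![![1,0,1],![0,1,1],![0,1,0]],
   ![![0,0,1],![0,1,0],![1,0,0]],
   ![![0,0,1],![1,1,0],![0,1,0]],
   ![![1,0,1],![1,1,1],![1,0,0]],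
   ![![1,1,0],![1,1,1],![1,0,1]],
   ![![0,0,1],![1,0,0],![1,1,1]],
   ![![0,1,0],![1,1,0],![0,1,1]],
   ![![0,1,1],![0,0,1],![1,1,0]],
   ![![1,0,0],![1,1,0],![1,1,1]],
   ![![0,0,1],![0,1,0],![1,1,1]],
   ![![1,0,1],![0,1,1],![1,0,0]],
   ![![1,0,1],![0,1,1],![0,0,1]],
   ![![1,1,1],![1,1,0],![1,0,1]],
   ![![0,1,1],![0,1,0],![1,1,0]],
   ![![1,1,0],![0,1,1],![0,0,1]],
   ![![1,1,1],![0,1,0],![0,1,1]],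
   ![![0,1,1],![1,1,1],![0,0,1]],
   ![![0,0,1],![0,1,0],![1,1,0]],
   ![![0,1,0],![0,0,1],![1,0,0]],
   ![![0,1,0],![1,0,0],![1,0,1]],
   ![![1,0,0],![0,1,1],![1,1,0]],
   ![![0,0,1],![1,1,0],![1,0,1]],
   ![![1,0,1],![0,1,0],![0,1,1]],
   ![![1,0,0],![1,1,1],![0,0,1]],
   ![![0,1,1],![0,0,1],![1,0,0]],
   ![![1,1,0],![1,0,0],![1,0,1]],
   ![![1,1,1],![0,1,1],![1,1,0]],
   ![![0,1,1],![1,0,1],![0,0,1]],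
   ![![1,1,0],![1,0,1],![0,0,1]]]

/-- Their images. -/
def imgL : List (M3 5) :=
  [![![(1,0),(0,0),(0,0)],![(0,0),(1,0),(0,0)],![(0,0),(0,0),(1,0)]],
   ![![(1,0),(1,0),(1,1)],![(1,0),(2,0),(3,3)],![(1,4),(3,2),(1,0)]],
   ![![(0,0),(1,3),(4,3)],![(4,2),(1,1),(4,1)],![(0,4),(3,0),(4,4)]],
   ![![(2,1),(0,2),(0,2)],![(2,1),(2,4),(3,4)],![(0,3),(0,2),(3,4)]],
   ![![(4,2),(1,3),(0,0)],![(2,0),(2,0),(1,3)],![(4,4),(4,4),(1,2)]],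
   ![![(0,0),(4,3),(0,1)],![(1,2),(1,4),(3,0)],![(4,2),(4,4),(4,1)]],
   ![![(3,0),(0,1),(1,1)],![(4,1),(1,2),(2,0)],![(0,1),(0,0),(1,3)]],
   ![![(4,3),(2,0),(4,1)],![(1,2),(2,0),(4,1)],![(0,0),(1,2),(1,3)]],
   ![![(1,4),(3,3),(3,3)],![(2,3),(2,2),(4,4)],![(3,3),(3,0),(4,0)]],
   ![![(2,4),(2,4),(0,2)],![(0,3),(2,1),(0,3)],![(0,3),(3,1),(3,1)]],
   ![![(2,3),(3,3),(1,1)],![(2,3),(1,1),(3,3)],![(4,4),(4,0),(4,0)]],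
   ![![(3,0),(4,4),(0,4)],![(0,4),(1,3),(0,0)],![(1,4),(2,0),(1,2)]],
   ![![(1,2),(3,0),(4,1)],![(0,0),(4,2),(0,1)],![(0,4),(1,1),(2,0)]],
   ![![(3,0),(3,2),(2,3)],![(3,3),(3,0),(1,0)],![(2,2),(1,0),(3,0)]],
   ![![(0,0),(1,2),(4,3)],![(1,3),(2,0),(2,0)],![(4,2),(2,0),(2,0)]],
   ![![(4,1),(0,4),(1,4)],![(0,4),(0,0),(0,4)],![(2,0),(4,2),(3,0)]],
   ![![(2,2),(2,3),(1,1)],![(2,3),(2,0),(3,2)],![(1,4),(4,0),(2,3)]],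
   ![![(4,4),(0,4),(3,0)],![(1,4),(1,3),(4,4)],![(4,3),(0,0),(1,3)]],
   ![![(0,2),(3,1),(2,4)],![(2,1),(3,4),(3,1)],![(3,4),(3,1),(3,4)]],
   ![![(2,3),(2,2),(1,1)],![(2,2),(2,0),(4,0)],![(1,4),(3,3),(2,2)]],
   ![![(4,1),(1,1),(4,2)],![(0,1),(1,2),(0,0)],![(3,0),(4,1),(1,2)]],
   ![![(1,1),(2,2),(3,2)],![(3,2),(2,3),(3,0)],![(3,2),(4,1),(4,0)]],
   ![![(3,0),(1,4),(1,2)],![(2,0),(4,1),(1,2)],![(4,3),(4,2),(0,0)]],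
   ![![(3,0),(3,3),(1,0)],![(3,2),(3,0),(2,3)],![(1,0),(2,2),(3,0)]],
   ![![(2,0),(3,3),(4,0)],![(3,2),(1,0),(4,1)],![(4,0),(4,4),(1,0)]],
   ![![(1,3),(0,0),(0,1)],![(3,0),(4,3),(1,4)],![(4,4),(0,4),(2,0)]],
   ![![(2,0),(3,0),(1,3)],![(1,3),(1,3),(0,0)],![(1,1),(4,4),(4,3)]],
   ![![(3,3),(3,3),(1,4)],![(1,4),(3,2),(4,0)],![(3,2),(1,4),(4,0)]],
   ![![(4,1),(4,1),(0,1)],![(3,0),(3,0),(4,2)],![(0,1),(0,4),(0,0)]],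
   ![![(4,2),(0,1),(0,0)],![(2,0),(1,4),(4,3)],![(1,1),(2,0),(0,4)]],
   ![![(2,2),(2,2),(4,1)],![(3,2),(1,4),(4,0)],![(1,4),(3,2),(4,0)]],
   ![![(1,0),(1,1),(1,0)],![(3,2),(1,0),(1,4)],![(3,0),(2,2),(4,0)]],
   ![![(1,2),(0,0),(4,3)],![(1,1),(1,2),(1,1)],![(4,1),(0,1),(4,1)]],
   ![![(4,2),(0,0),(4,3)],![(1,4),(4,3),(3,0)],![(1,4),(1,2),(3,0)]],
   ![![(4,4),(3,2),(2,2)],![(2,3),(3,0),(2,3)],![(2,3),(4,0),(4,1)]],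
   ![![(4,4),(0,1),(2,0)],![(0,1),(0,0),(4,3)],![(1,1),(0,1),(3,0)]],
   ![![(1,0),(3,3),(3,0)],![(1,4),(1,0),(2,3)],![(1,0),(1,1),(4,0)]],
   ![![(4,4),(3,3),(2,3)],![(3,2),(4,1),(4,0)],![(3,2),(2,3),(3,0)]],
   ![![(1,3),(1,1),(4,1)],![(1,3),(4,4),(1,4)],![(0,0),(0,4),(1,3)]],
   ![![(3,2),(1,1),(3,3)],![(3,2),(3,3),(1,1)],![(1,1),(4,0),(4,0)]],
   ![![(4,3),(4,4),(4,4)],![(1,3),(3,0),(3,0)],![(0,0),(1,3),(4,2)]],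
   ![![(4,4),(3,0),(0,4)],![(4,4),(3,0),(0,1)],![(0,4),(4,3),(0,0)]],
   ![![(4,3),(2,0),(1,4)],![(0,4),(1,1),(2,0)],![(0,0),(4,2),(0,1)]],
   ![![(3,0),(2,0),(4,2)],![(1,1),(4,4),(4,3)],![(1,3),(1,3),(0,0)]],
   ![![(4,1),(0,4),(4,1)],![(1,3),(0,0),(4,2)],![(1,4),(0,4),(1,4)]],
   ![![(2,1),(3,4),(2,4)],![(3,4),(3,1),(2,1)],![(0,3),(2,4),(2,4)]],
   ![![(4,1),(3,3),(3,3)],![(3,2),(4,4),(2,2)],![(2,2),(4,0),(3,0)]],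
   ![![(0,1),(4,3),(0,0)],![(1,4),(1,1),(4,2)],![(3,0),(1,4),(4,3)]],
   ![![(1,2),(1,2),(0,0)],![(1,4),(4,1),(0,1)],![(4,4),(1,1),(1,2)]],
   ![![(4,2),(1,2),(0,0)],![(4,1),(3,0),(1,2)],![(4,1),(3,0),(4,3)]],
   ![![(2,0),(1,2),(1,4)],![(3,0),(1,2),(4,1)],![(1,2),(0,0),(4,2)]],
   ![![(4,0),(4,4),(4,0)],![(3,0),(2,2),(4,0)],![(3,2),(1,0),(1,4)]],
   ![![(3,1),(3,1),(0,3)],![(0,3),(3,1),(3,1)],![(0,3),(2,1),(0,3)]],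
   ![![(1,2),(4,1),(2,0)],![(4,3),(4,1),(2,0)],![(0,0),(1,3),(1,2)]],
   ![![(1,3),(1,4),(4,4)],![(0,0),(1,3),(0,4)],![(4,2),(1,4),(4,4)]],
   ![![(4,0),(1,0),(1,1)],![(2,3),(1,4),(1,0)],![(2,0),(4,0),(2,2)]],
   ![![(4,3),(1,1),(1,1)],![(0,0),(4,2),(1,3)],![(4,2),(3,0),(3,0)]],
   ![![(4,1),(2,2),(2,2)],![(3,3),(3,0),(4,0)],![(2,3),(2,2),(4,4)]],
   ![![(0,3),(2,4),(3,1)],![(3,4),(3,1),(3,4)],![(2,1),(3,4),(3,1)]],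
   ![![(4,0),(2,2),(2,0)],![(1,0),(1,1),(4,0)],![(1,4),(1,0),(2,3)]],
   ![![(4,2),(0,0),(4,2)],![(1,1),(1,2),(4,4)],![(3,0),(1,3),(2,0)]],
   ![![(0,0),(0,1),(4,3)],![(4,3),(3,0),(1,4)],![(1,3),(4,1),(4,4)]],
   ![![(4,4),(1,2),(1,1)],![(0,1),(0,0),(0,1)],![(4,4),(4,3),(1,1)]],
   ![![(3,0),(1,3),(3,0)],![(4,2),(0,0),(1,3)],![(4,4),(4,3),(4,4)]],
   ![![(2,4),(3,1),(0,2)],![(3,1),(3,4),(2,1)],![(2,1),(2,4),(2,1)]],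
   ![![(0,4),(1,1),(3,0)],![(4,2),(1,4),(1,1)],![(0,0),(4,3),(4,2)]],
   ![![(2,0),(4,1),(4,3)],![(4,3),(4,2),(0,0)],![(2,0),(4,1),(1,2)]],
   ![![(0,0),(1,2),(0,4)],![(4,2),(4,4),(4,1)],![(1,2),(1,4),(3,0)]],
   ![![(0,0),(4,3),(1,2)],![(4,2),(2,0),(2,0)],![(1,3),(2,0),(2,0)]],
   ![![(2,1),(0,3),(0,3)],![(0,2),(3,4),(0,2)],![(3,4),(3,4),(2,4)]],
   ![![(0,0),(0,0),(2,2)],![(0,0),(4,0),(0,0)],![(2,3),(0,0),(0,0)]],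
   ![![(2,4),(0,3),(2,4)],![(3,4),(2,1),(2,4)],![(2,4),(2,1),(3,4)]],
   ![![(4,0),(3,0),(3,3)],![(4,1),(2,3),(1,0)],![(4,0),(4,0),(1,1)]],
   ![![(2,1),(3,1),(2,1)],![(0,2),(2,4),(2,4)],![(2,1),(2,1),(3,1)]],
   ![![(1,0),(3,0),(2,2)],![(3,0),(1,0),(3,3)],![(2,3),(3,2),(2,0)]],
   ![![(2,0),(2,3),(3,2)],![(2,2),(1,0),(3,0)],![(3,3),(3,0),(1,0)]],
   ![![(3,0),(4,3),(4,1)],![(1,2),(0,0),(4,2)],![(3,0),(1,2),(4,1)]],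
   ![![(4,0),(4,1),(2,3)],![(3,3),(1,0),(2,0)],![(1,1),(1,0),(1,0)]],
   ![![(1,1),(3,0),(0,4)],![(4,1),(4,4),(1,3)],![(1,2),(1,3),(0,0)]],
   ![![(3,0),(4,4),(0,1)],![(0,1),(4,2),(0,0)],![(1,4),(2,0),(4,3)]],
   ![![(3,0),(4,0),(2,2)],![(4,0),(3,0),(2,2)],![(2,3),(2,3),(3,0)]],
   ![![(0,4),(1,2),(0,0)],![(3,0),(1,4),(4,3)],![(1,4),(1,1),(4,2)]],
   ![![(2,0),(4,2),(2,0)],![(4,4),(4,3),(4,4)],![(4,2),(0,0),(1,3)]],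
   ![![(1,1),(4,3),(4,4)],![(4,4),(4,3),(1,1)],![(0,1),(0,0),(0,1)]],
   ![![(2,0),(1,0),(2,2)],![(1,0),(1,0),(4,4)],![(2,3),(4,1),(1,0)]],
   ![![(3,3),(1,1),(2,3)],![(3,2),(3,2),(2,0)],![(4,1),(2,3),(4,0)]],
   ![![(4,3),(0,0),(1,2)],![(4,1),(0,1),(4,1)],![(1,1),(1,2),(1,1)]],
   ![![(4,0),(0,0),(0,0)],![(0,0),(0,0),(1,0)],![(0,0),(1,0),(0,0)]],
   ![![(1,4),(4,4),(1,3)],![(3,0),(4,1),(1,2)],![(0,1),(1,2),(0,0)]],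
   ![![(1,2),(4,4),(4,4)],![(4,2),(3,0),(3,0)],![(0,0),(4,2),(1,3)]],
   ![![(1,4),(4,1),(0,4)],![(4,2),(4,2),(0,0)],![(4,1),(1,4),(0,4)]],
   ![![(0,1),(3,0),(1,1)],![(1,3),(1,1),(1,4)],![(0,0),(4,2),(4,3)]],
   ![![(3,4),(0,2),(0,2)],![(3,4),(3,4),(2,4)],![(0,2),(3,4),(0,2)]],
   ![![(3,2),(3,3),(4,4)],![(1,4),(3,3),(2,2)],![(2,2),(2,0),(4,0)]],
   ![![(1,3),(4,2),(0,0)],![(4,4),(4,4),(1,2)],![(2,0),(2,0),(1,3)]],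
   ![![(1,1),(0,4),(3,0)],![(1,1),(0,1),(3,0)],![(0,1),(0,0),(4,3)]],
   ![![(4,0),(1,1),(1,0)],![(4,0),(3,3),(2,0)],![(4,1),(1,0),(3,2)]],
   ![![(1,0),(3,3),(2,0)],![(3,2),(2,0),(3,2)],![(2,0),(3,3),(1,0)]],
   ![![(0,4),(0,0),(4,3)],![(4,1),(4,2),(1,1)],![(2,0),(4,3),(1,4)]],
   ![![(1,1),(2,3),(3,3)],![(2,3),(4,0),(4,1)],![(2,3),(3,0),(2,3)]],
   ![![(1,4),(2,2),(2,2)],![(2,2),(4,0),(3,0)],![(3,2),(4,4),(2,2)]],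
   ![![(0,0),(4,3),(1,3)],![(1,3),(4,1),(1,1)],![(0,1),(4,4),(3,0)]],
   ![![(0,0),(3,3),(0,0)],![(3,2),(0,0),(0,0)],![(0,0),(0,0),(4,0)]],
   ![![(2,4),(0,3),(3,1)],![(0,2),(3,1),(3,1)],![(0,2),(0,3),(2,1)]],
   ![![(1,4),(0,1),(1,4)],![(1,4),(0,4),(1,4)],![(1,3),(0,0),(4,2)]],
   ![![(1,4),(0,1),(4,1)],![(2,0),(4,2),(3,0)],![(0,4),(0,0),(0,4)]],
   ![![(4,0),(4,0),(4,4)],![(1,4),(3,2),(1,0)],![(1,0),(2,0),(3,3)]],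
   ![![(0,0),(4,2),(1,2)],![(0,4),(3,0),(4,4)],![(4,2),(1,1),(4,1)]],
   ![![(1,3),(0,4),(0,0)],![(1,1),(2,0),(0,4)],![(2,0),(1,4),(4,3)]],
   ![![(1,1),(2,0),(0,1)],![(0,4),(4,3),(0,0)],![(4,4),(3,0),(0,1)]],
   ![![(4,0),(2,0),(3,3)],![(2,3),(3,2),(2,0)],![(3,0),(1,0),(3,3)]],
   ![![(2,2),(1,4),(3,3)],![(4,1),(4,0),(3,2)],![(2,3),(4,0),(1,4)]],
   ![![(0,0),(2,2),(0,0)],![(0,0),(0,0),(4,0)],![(3,2),(0,0),(0,0)]],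
   ![![(4,3),(1,4),(3,0)],![(0,0),(1,3),(1,2)],![(4,3),(4,1),(2,0)]],
   ![![(1,4),(1,4),(0,4)],![(0,1),(0,4),(0,0)],![(3,0),(3,0),(4,2)]],
   ![![(4,2),(0,0),(0,4)],![(4,4),(0,4),(2,0)],![(3,0),(4,3),(1,4)]],
   ![![(1,3),(4,3),(0,0)],![(4,1),(3,0),(4,3)],![(4,1),(3,0),(1,2)]],
   ![![(1,0),(4,4),(4,0)],![(4,1),(1,0),(3,2)],![(4,0),(3,3),(2,0)]],
   ![![(3,0),(0,4),(1,1)],![(4,1),(4,3),(2,0)],![(0,4),(0,0),(4,2)]],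
   ![![(4,1),(1,4),(0,1)],![(4,1),(1,4),(0,4)],![(4,2),(4,2),(0,0)]],
   ![![(3,3),(4,1),(2,2)],![(2,3),(4,0),(1,4)],![(4,1),(4,0),(3,2)]],
   ![![(4,1),(1,3),(4,4)],![(2,0),(1,2),(4,1)],![(0,4),(0,0),(1,2)]],
   ![![(4,3),(4,3),(0,0)],![(4,4),(1,1),(1,2)],![(1,4),(4,1),(0,1)]],
   ![![(2,0),(2,2),(4,0)],![(1,0),(2,2),(3,0)],![(3,2),(3,0),(2,3)]],
   ![![(4,0),(3,2),(1,4)],![(4,4),(1,0),(1,0)],![(2,2),(2,0),(1,0)]],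
   ![![(4,3),(4,1),(3,0)],![(0,0),(0,1),(4,2)],![(0,1),(2,0),(1,1)]],
   ![![(1,3),(0,0),(1,3)],![(3,0),(1,3),(2,0)],![(1,1),(1,2),(4,4)]],
   ![![(3,2),(2,2),(4,4)],![(4,4),(4,0),(4,0)],![(2,3),(1,1),(3,3)]],
   ![![(3,4),(0,3),(0,3)],![(0,3),(0,2),(3,4)],![(2,1),(2,4),(3,4)]],
   ![![(1,2),(1,1),(1,1)],![(0,0),(1,3),(4,2)],![(1,3),(3,0),(3,0)]],
   ![![(3,0),(4,0),(3,3)],![(2,3),(4,1),(1,0)],![(1,0),(1,0),(4,4)]],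
   ![![(0,1),(0,0),(1,2)],![(2,0),(4,3),(1,4)],![(4,1),(4,2),(1,1)]],
   ![![(4,0),(2,2),(3,0)],![(2,0),(3,3),(1,0)],![(3,2),(2,0),(3,2)]],
   ![![(2,2),(4,4),(3,2)],![(4,1),(2,3),(4,0)],![(3,2),(3,2),(2,0)]],
   ![![(1,2),(1,4),(2,0)],![(0,1),(2,0),(1,1)],![(0,0),(0,1),(4,2)]],
   ![![(0,0),(0,0),(3,3)],![(2,3),(0,0),(0,0)],![(0,0),(4,0),(0,0)]],
   ![![(4,2),(4,4),(1,4)],![(0,0),(0,4),(1,3)],![(1,3),(4,4),(1,4)]],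
   ![![(2,3),(4,4),(2,2)],![(1,1),(4,0),(4,0)],![(3,2),(3,3),(1,1)]],
   ![![(2,0),(1,1),(0,1)],![(1,4),(2,0),(1,2)],![(0,4),(1,3),(0,0)]],
   ![![(0,1),(4,4),(2,0)],![(0,0),(4,3),(4,2)],![(4,2),(1,4),(1,1)]],
   ![![(2,0),(0,1),(4,4)],![(0,4),(0,0),(4,2)],![(4,1),(4,3),(2,0)]],
   ![![(3,1),(0,2),(3,1)],![(2,4),(2,1),(3,4)],![(3,4),(2,1),(2,4)]],
   ![![(1,4),(4,2),(1,1)],![(0,4),(0,0),(1,2)],![(2,0),(1,2),(4,1)]],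
   ![![(3,1),(2,4),(0,3)],![(2,1),(2,4),(2,1)],![(3,1),(3,4),(2,1)]],
   ![![(3,0),(2,2),(1,0)],![(4,0),(4,4),(1,0)],![(3,2),(1,0),(4,1)]],
   ![![(3,3),(3,2),(4,4)],![(1,4),(4,0),(2,3)],![(2,3),(2,0),(3,2)]],
   ![![(1,3),(0,0),(1,2)],![(1,4),(1,2),(3,0)],![(1,4),(4,3),(3,0)]],
   ![![(2,3),(4,4),(3,3)],![(4,1),(2,2),(3,3)],![(3,3),(4,0),(2,0)]],
   ![![(1,1),(1,1),(1,2)],![(0,4),(0,1),(0,0)],![(1,1),(1,1),(4,3)]],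
   ![![(0,4),(2,0),(4,4)],![(0,0),(4,2),(4,3)],![(1,3),(1,1),(1,4)]],
   ![![(1,0),(1,4),(3,2)],![(1,1),(1,0),(1,0)],![(3,3),(1,0),(2,0)]],
   ![![(4,4),(2,0),(0,1)],![(1,2),(1,3),(0,0)],![(4,1),(4,4),(1,3)]],
   ![![(2,0),(0,4),(4,4)],![(0,1),(0,0),(1,3)],![(4,1),(1,2),(2,0)]],
   ![![(1,2),(3,0),(1,4)],![(0,0),(1,2),(1,3)],![(1,2),(2,0),(4,1)]],
   ![![(1,0),(4,0),(4,4)],![(2,0),(4,0),(2,2)],![(2,3),(1,4),(1,0)]],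
   ![![(0,0),(1,2),(4,2)],![(0,1),(4,4),(3,0)],![(1,3),(4,1),(1,1)]],
   ![![(3,1),(0,2),(2,4)],![(0,2),(0,3),(2,1)],![(0,2),(3,1),(3,1)]],
   ![![(4,4),(4,4),(4,3)],![(1,1),(1,1),(4,3)],![(0,4),(0,1),(0,0)]],
   ![![(2,0),(1,0),(3,3)],![(2,3),(2,3),(3,0)],![(4,0),(3,0),(2,2)]],
   ![![(4,2),(4,1),(1,1)],![(4,2),(1,4),(4,4)],![(0,0),(1,3),(0,4)]],
   ![![(1,1),(0,1),(2,0)],![(4,3),(0,0),(1,3)],![(1,4),(1,3),(4,4)]],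
   ![![(1,0),(2,0),(2,2)],![(4,0),(4,0),(1,1)],![(4,1),(2,3),(1,0)]],
   ![![(2,0),(1,1),(0,4)],![(1,4),(2,0),(4,3)],![(0,1),(4,2),(0,0)]],
   ![![(3,4),(2,1),(3,1)],![(0,3),(2,4),(2,4)],![(3,4),(3,1),(2,1)]],
   ![![(3,2),(1,1),(2,2)],![(3,3),(4,0),(2,0)],![(4,1),(2,2),(3,3)]],
   ![![(3,4),(2,4),(3,4)],![(2,1),(2,1),(3,1)],![(0,2),(2,4),(2,4)]],
   ![![(1,0),(2,3),(4,1)],![(2,2),(2,0),(1,0)],![(4,4),(1,0),(1,0)]],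
   ![![(0,0),(0,4),(1,2)],![(1,3),(4,1),(4,4)],![(4,3),(3,0),(1,4)]]]

/-- Predecessors in a breadth first search. -/
def parL : List ℕ := [0,0,0,1,2,2,3,3,4,5,6,7,8,8,9,10,10,11,12,13,14,14,15,16,17,17,18,18,19,20,21,22,22,23,24,25,26,27,28,28,29,29,30,31,32,33,33,34,34,35,36,36,37,38,39,40,41,42,42,43,44,45,46,47,48,49,51,52,52,53,53,54,55,55,56,57,59,60,60,61,61,62,63,63,64,65,66,67,68,69,71,73,74,75,75,76,77,78,79,81,83,84,85,85,86,86,87,87,88,89,89,90,91,92,93,95,95,96,96,97,98,98,99,100,101,102,104,105,106,108,110,111,111,112,112,113,114,114,115,116,117,119,121,122,122,123,123,124,125,125,126,126,128,128,129,130,133,134,135,137,138,141,142,146,147,149,155,162]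

/-- Last letters. -/
def lastL : List Bool := [false,false,true,true,false,true,false,true,true,false,true,false,false,true,true,false,true,true,true,false,false,true,true,false,false,true,false,true,true,true,false,false,true,true,true,false,true,false,false,true,false,true,true,true,false,false,true,false,true,true,false,true,true,true,false,true,false,false,true,true,true,true,false,true,false,false,false,false,true,false,true,true,false,true,true,true,false,false,true,false,true,true,false,true,true,true,true,true,false,true,false,false,true,false,true,true,true,false,true,false,false,true,false,true,false,true,false,true,true,false,true,true,true,false,true,false,true,false,true,true,false,true,true,true,false,true,true,false,true,false,false,false,true,false,true,true,false,true,true,false,true,false,false,false,true,false,true,true,false,true,false,true,false,true,true,true,true,false,false,false,true,true,true,false,false,false,false,false]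

/-- Right multiplication by the generators. -/
def stepL (b : Bool) : List ℕ := if b then [2,3,5,7,8,0,10,1,13,14,16,17,18,4,21,22,6,25,27,28,29,9,32,33,34,11,36,12,39,41,42,43,15,46,48,49,51,52,53,19,55,20,58,59,60,61,23,63,24,50,35,26,68,70,71,73,74,75,30,31,78,80,81,83,84,85,86,87,37,89,38,72,54,40,92,94,95,96,44,98,45,82,62,47,101,103,105,107,108,110,111,112,56,114,57,116,118,119,121,122,123,64,125,65,126,66,128,67,109,88,69,132,134,135,137,138,76,140,77,120,97,79,144,146,147,149,151,145,153,154,155,142,90,156,91,136,113,93,160,133,150,161,162,130,99,152,100,148,124,102,117,104,127,106,165,143,139,166,163,141,115,159,131,167,157,129,164,158] else [1,0,4,6,2,9,3,11,12,5,15,7,8,19,20,10,23,24,26,13,14,30,31,16,17,35,18,37,38,40,21,22,44,45,47,25,50,27,28,54,29,56,57,58,32,33,62,34,64,65,36,66,67,69,3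9,72,41,42,43,76,77,79,46,82,48,49,51,52,88,53,80,90,55,91,84,93,59,60,97,61,70,99,63,100,74,102,104,106,68,109,71,73,113,75,107,115,117,78,120,81,83,124,85,118,86,127,87,94,129,89,130,131,133,92,136,95,139,96,103,141,98,142,143,145,101,148,150,105,152,108,110,111,151,112,157,158,114,159,153,116,156,119,121,122,160,123,163,164,125,165,126,132,128,138,161,166,140,134,135,137,144,154,167,146,147,149,155,162]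

/-- Positions by code number. -/
def posL : List ℕ := [0,0,0,0,0,0,0,0,0,0,0,0,0,0,0,0,0,0,0,0,0,0,0,0,0,0,0,0,0,0,0,0,0,0,0,0,0,0,0,0,0,0,0,0,0,0,0,0,0,0,0,0,0,0,0,0,0,0,0,0,0,0,0,0,0,0,0,0,0,0,0,0,0,0,0,0,0,0,0,0,0,0,0,0,140,115,128,104,0,0,0,0,56,5,7,64,0,0,157,22,0,0,163,18,0,0,72,57,0,0,65,82,0,0,28,137,33,149,0,0,0,0,130,78,68,142,0,0,0,0,0,0,0,0,0,0,0,0,0,0,119,108,69,79,0,0,0,0,0,0,0,0,0,0,0,0,141,61,53,129,0,24,0,17,0,20,0,14,0,36,0,100,43,0,91,0,0,105,0,127,0,139,0,116,0,83,0,50,58,0,73,0,0,0,0,0,0,0,0,0,0,0,0,0,41,48,11,9,0,0,0,0,156,86,152,95,0,0,0,0,0,0,0,0,0,31,134,0,0,26,146,0,0,97,110,0,88,0,0,121,0,159,38,0,45,0,0,165,0,42,55,0,0,63,49,0,0,0,0,0,0,0,0,0,0,0,75,85,0,0,54,62,0,0,0,1,0,74,0,84,0,102,93,0,0,46,39,0,0,0,0,0,0,0,0,0,0,0,32,167,0,0,166,27,0,138,0,153,0,150,0,126,0,162,44,0,0,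37,155,0,0,0,0,0,0,0,0,0,0,0,158,164,0,0,15,12,0,23,0,19,125,0,114,0,0,117,106,0,160,0,0,151,0,0,103,71,0,0,94,81,0,0,0,0,0,0,0,0,0,92,3,0,2,0,0,101,0,52,0,143,131,0,60,0,0,0,0,0,0,0,0,0,0,0,123,112,51,59,0,0,0,80,0,70,0,161,0,154,0,133,145,0,66,0,0,76,0,109,0,89,0,120,0,98,0,29,25,0,34,0,0,21,0,0,0,0,0,0,0,0,0,0,35,40,47,30,0,0,0,0,0,0,0,0,0,0,0,0,87,96,144,132,0,0,0,13,0,16,148,0,136,0,0,147,135,0,0,8,10,0,0,90,118,0,0,99,107,0,0,122,0,67,111,0,77,0,0,0,6,113,4,124,0,0,0,0,0,0,0,0,0,0]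

/-- The element in a position. -/
def elt (k : ℕ) : M2 := eltL.getD k (fun _ _ => 0)

/-- The image in a position. -/
def img (k : ℕ) : M3 5 := imgL.getD k idm

/-- The predecessor of a position. -/
def par (k : ℕ) : ℕ := parL.getD k 0

/-- The last letter of a position. -/
def last (k : ℕ) : Bool := lastL.getD k false

/-- The position after multiplication by a generator. -/
def step (b : Bool) (k : ℕ) : ℕ := (stepL b).getD k 0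

/-- The position of a matrix. -/
def pos (M : M2) : ℕ := posL.getD ((M 0 0).val + 2 * (M 0 1).val + 4 * (M 0 2).val + 8 * (M 1 0).val +
  16 * (M 1 1).val + 32 * (M 1 2).val + 64 * (M 2 0).val + 128 * (M 2 1).val + 256 * (M 2 2).val) 0

lemma step_lt : ∀ (b : Bool) (k : Fin 168), step b k < 168 := by decide +kernel

lemma par_lt : ∀ k : Fin 168, (k : ℕ) ≠ 0 → par k < k ∧ step (last k) (par k) = k := by decide +kernel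

lemma elt_step : ∀ (b : Bool) (k : Fin 168), ∀ i j, elt (step b k) i j = mul2 (elt k) (gen2 b) i j := by
  decide +kernel

lemma img_step : ∀ (b : Bool) (k : Fin 168), ∀ i j, img (step b k) i j = mm5 (img k) (gen5 b) i j := by
  decide +kernel

lemma pos_elt : ∀ k : Fin 168, pos (elt k) = k := by decide +kernel

lemma elt_pos_entries : ∀ a b c d e f g h l : ZMod 2,
    a * (e * l - f * h) - b * (d * l - f * g) + c * (d * h - e * g) = 1 →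
    pos ![![a, b, c], ![d, e, f], ![g, h, l]] < 168 ∧
      elt (pos ![![a, b, c], ![d, e, f], ![g, h, l]]) = ![![a, b, c], ![d, e, f], ![g, h, l]] := by
  decide +kernel

end CfsgLib.SLThreeResidual.SevenFive
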